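import Groth.Agent.H8Props.AmpleDivisors
import Groth.Agent.H11Strict.BlowProj
import Groth.Agent.H11Strict.SeparateExists
import Groth.Agent.H11Proj.ProjectiveProps
import Groth.Agent.H26Blow.Exists
import Groth.Agent.S7386
import Groth.Agent.H17.GenFiniteDense
import Mathlib

/-!
# An admissible blow-up with an ample family of invertible modules
-/

set_option autoImplicit false
set_option linter.style.haveILetI false
set_option backward.isDefEq.respectTransparency false

universe u

open AlgebraicGeometry CategoryTheory Limits TopologicalSpace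

namespace Groth.Agent.H8AmpleCover

/-- Every point of a quasi-separated scheme with finitely many irreducible components lies in a
dense affine open. -/
theorem exists_dense_affine_mem (X : Scheme.{u}) [QuasiSeparatedSpace X]
    (hirr : (irreducibleComponents ↥X).Finite) (x : X) :
    ∃ U : X.Opens, IsAffineOpen U ∧ x ∈ U ∧ Dense (U : Set X) := by
  have hg : (genericPoints X).Finite := by
    haveI : Finite (irreducibleComponents ↥X) := hirr
    exact Set.finite_coe_iff.mp (Finite.of_equiv _ (genericPoints.equiv (α := X)).symm)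
  obtain ⟨n, η, hη⟩ := hg.fin_embedding
  obtain ⟨U, hU, hxU, hηU⟩ := S7386.result X η (fun i => hη.le ⟨i, rfl⟩) x
  refine ⟨U, hU, hxU, H17.GenFinite.dense_of_genericPoints_subset fun z hz => ?_⟩
  obtain ⟨i, rfl⟩ := hη.ge hz
  exact hηU i

/-- The product of finitely many ideals. -/
theorem exists_prod {X : Scheme.{u}} : ∀ (n : ℕ) (I : Fin n → X.IdealSheafData),
    (∀ i, BlowUp.IsFiniteTypeIdeal (I i)) →
    ∃ P : X.IdealSheafData, BlowUp.IsFiniteTypeIdeal P ∧
      (P.support : Set X) = ⋃ i, ((I i).support : Set X) ∧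
      ∀ (Y : Scheme.{u}) (g : Y ⟶ X), BlowUp.IsEffCartierIdeal (P.comap g) →
        ∀ i, BlowUp.IsEffCartierIdeal ((I i).comap g)
  | 0, I, _ => ⟨⊤, fun U => by rw [Scheme.IdealSheafData.ideal_top, Pi.top_apply]; exact ⟨{1}, by simp⟩,
      by simp, fun _ _ _ i => i.elim0⟩
  | n + 1, I, hI => by
    obtain ⟨P, hP, hs, hc⟩ := exists_prod n (fun i => I i.succ) fun i => hI _
    refine ⟨I 0 * P, H11Strict.isFiniteTypeIdeal_mul (hI 0) hP, ?_, fun Y g hg => ?_⟩
    · rw [Scheme.IdealSheafData.support_mul, Closeds.coe_sup, hs]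
      ext x
      simp [Fin.exists_fin_succ]
    · rw [H29Blow.comap_mul] at hg
      exact Fin.cases (H29Blow.isEffCartierIdeal_left_of_mul hg)
        (hc Y g (H29Blow.isEffCartierIdeal_right_of_mul hg))

theorem exists_blowUp_ampleFamily (X : Scheme.{u}) [CompactSpace X] [QuasiSeparatedSpace X]
    (hirr : (irreducibleComponents ↥X).Finite) :
    ∃ (U : X.Opens) (𝓘 : X.IdealSheafData) (X' : Scheme.{u}) (b : X' ⟶ X),
      IsCompact (U : Set ↥X) ∧ Dense (U : Set ↥X) ∧ BlowUp.IsAdmissibleFor U 𝓘 ∧ BlowUp.IsBlowUp b 𝓘 ∧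
      MoreMor.HasAmpleFamily X' := by
  classical
  choose W₀ hW₀ hxW₀ hdW₀ using exists_dense_affine_mem X hirr
  obtain ⟨t, ht⟩ := isCompact_univ.elim_finite_subcover (fun x => (W₀ x : Set X)) (fun x => (W₀ x).2)
    (fun x _ => Set.mem_iUnion.2 ⟨x, hxW₀ x⟩)
  let W : Fin t.card → X.Opens := fun i => W₀ (t.equivFin.symm i)
  have hcov : ∀ x : X, ∃ i, x ∈ W i := fun x => by
    obtain ⟨y, hy, hxy⟩ := Set.mem_iUnion₂.1 (ht (Set.mem_univ x))
    exact ⟨t.equivFin ⟨y, hy⟩, by simpa [W] using hxy⟩
  have hI : ∀ i, ∃ I : X.IdealSheafData, BlowUp.IsFiniteTypeIdeal I ∧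
      (I.support : Set X) = (W i : Set X)ᶜ := fun i => by
    obtain ⟨F, hFJ, hF, hd⟩ := H11Strict.exists_ft_le_disjoint
      (Scheme.IdealSheafData.vanishingIdeal ⟨(W i : Set X)ᶜ, (W i).2.isClosed_compl⟩)
      (W i : Set X) (hW₀ _).isCompact (by
        rw [Scheme.IdealSheafData.coe_support_vanishingIdeal]
        exact disjoint_compl_left)
    refine ⟨F, hF, Set.Subset.antisymm (Set.subset_compl_iff_disjoint_right.2 hd) ?_⟩
    have := Scheme.IdealSheafData.support_antitone hFJ
    exact fun z hz => this hz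
  choose I hIft hIs using hI
  obtain ⟨P, hP, hPs, hPc⟩ := exists_prod _ I hIft
  obtain ⟨X', b, hb⟩ := H26Blow.exists_isBlowUp P
  obtain ⟨-, -, L, hL⟩ := H11Proj.isQuasiProjective_of_isProjective (H11Strict.BlowProj.isProjective (b := b) hP hb)
  have hU : ∀ s : Finset (Fin t.card), IsCompact ((s.inf W : X.Opens) : Set X) ∧
      Dense ((s.inf W : X.Opens) : Set X) := fun s => by
    induction s using Finset.induction_on with
    | empty => simpa using isCompact_univ
    | insert a s _ ih =>
      rw [Finset.inf_insert, Opens.coe_inf]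
      exact ⟨QuasiSeparatedSpace.inter_isCompact _ _ (W a).2 (hW₀ _).isCompact (Opens.isOpen _) ih.1,
        (hdW₀ _).inter_of_isOpen_left ih.2 (W a).2⟩
  refine ⟨Finset.univ.inf W, P, X', b, (hU _).1, (hU _).2, ⟨hP, ?_⟩, hb, ?_⟩
  · rw [hPs, Set.disjoint_iUnion_left]
    intro i
    rw [hIs i]
    exact disjoint_compl_left.mono_right (SetLike.coe_subset_coe.2 (Finset.inf_le (Finset.mem_univ i)))
  · refine H8Props.Ample.hasAmpleFamily_of_effCartier (fun i => (I i).comap b) (hPc X' b hb.1) ?_
      (fun _ => L) (fun _ => H11Ample.isInvertible_of_isRelAmple hL) fun i => ?_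
    · rw [Set.eq_empty_iff_forall_notMem]
      intro z hz
      obtain ⟨i, hi⟩ := hcov (b z)
      have := Set.mem_iInter.1 hz i
      rw [Scheme.IdealSheafData.support_comap] at this
      exact (hIs i).le this hi
    · have e : ((I i).comap b).support.compl = b ⁻¹ᵁ W i := by
        apply SetLike.coe_injective
        change (((I i).comap b).support : Set X')ᶜ = b ⁻¹' (W i : Set X)
        rw [Scheme.IdealSheafData.support_comap]
        change (b ⁻¹' ((I i).support : Set X))ᶜ = _
        rw [hIs i, Set.preimage_compl, compl_compl]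
      rw [e]
      exact (H11Ample.isRelAmple_iff.1 hL).2 (W i) (hW₀ _)

end Groth.Agent.H8AmpleCover
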