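import Groth.Agent.H8Props.AmpleBatch
import Groth.Agent.H12Pic.InvDesc.DisjointUnion
import Groth.Agent.H17.PullSectLocal
import Mathlib

/-!
# Ample families on disjoint unions
-/

set_option autoImplicit false
set_option linter.style.haveILetI false
set_option backward.isDefEq.respectTransparency false

noncomputable section

universe u

open AlgebraicGeometry CategoryTheory Limits TopologicalSpace Opposite
open Groth.Agent.H11Tilde Groth.Agent.H11Ample

namespace Groth.Agent.H8AmpleCover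

/-- An invertible module with a section on a member of a two-piece clopen cover extends by zero. -/
theorem exists_extend_clopen {Z : Scheme.{u}} (O O' : Z.Opens) (hcov : O ⊔ O' = ⊤) (hdis : O ⊓ O' = ⊥)
    {P : O.toScheme.Modules} (hP : PicF.IsInvertible P) (v : Γ(P, ⊤)) :
    ∃ (M : Z.Modules) (t : Γ(M, ⊤)), PicF.IsInvertible M ∧ gen M t = O.ι ''ᵁ gen P v := by
  classical
  let D : ULift.{u} Bool → Z.Opens := fun k => bif k.down then O else O'
  have hDcov : ∀ x, ∃ k, x ∈ D k := fun x => by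
    rcases (hcov.ge (Opens.mem_top x) : x ∈ O ⊔ O') with h | h
    · exact ⟨⟨true⟩, h⟩
    · exact ⟨⟨false⟩, h⟩
  have hDdis : ∀ k l, k ≠ l → D k ⊓ D l = ⊥ := by
    rintro ⟨_ | _⟩ ⟨_ | _⟩ h
    exacts [absurd rfl h, by rw [inf_comm]; exact hdis, hdis, absurd rfl h]
  let L : ∀ k, (D k).toScheme.Modules := fun k =>
    match k with
    | ⟨true⟩ => P
    | ⟨false⟩ => Coh.structureModule _
  obtain ⟨M, hM, hiso⟩ := H12Pic.InvDesc.Eff.exists_line_of_disjoint D hDcov hDdis L (by
    rintro ⟨_ | _⟩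
    exacts [isInvertible_structureModule, hP])
  obtain ⟨φ⟩ : Nonempty ((Scheme.Modules.pullback O.ι).obj M ≅ P) := hiso ⟨true⟩
  let N := (Scheme.Modules.pullback O.ι).obj M
  let w : Γ(N, ⊤) := φ.inv.app ⊤ v
  have hw : gen N w = gen P v := gen_iso φ.inv v
  have hpre : (⊤ : O.toScheme.Opens) ≤ O.ι ⁻¹ᵁ O := fun y _ => y.2
  obtain ⟨u, hu⟩ := (H17.PullSect.bijective_pullSect O.ι M (W := O) (Scheme.Opens.opensRange_ι O).ge).2
    (N.presheaf.map (homOfLE (le_top : O.ι ⁻¹ᵁ O ≤ ⊤)).op w)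
  let sec : ∀ b : Bool, Γ(M, bif b then O else O') := fun b =>
    match b with
    | true => u
    | false => 0
  have hcompat : TopCat.Presheaf.IsCompatible M.presheaf (fun b : Bool => bif b then O else O') sec := by
    intro a b
    rcases a with _ | _ <;> rcases b with _ | _
    · rfl
    · exact TopCat.Sheaf.eq_of_locally_eq' ⟨M.presheaf, M.isSheaf⟩ (fun e : PEmpty.{u + 1} => e.elim) _
        (fun e => e.elim) (fun (x : Z) (hx : x ∈ O' ⊓ O) => absurd (hdis.le (show x ∈ O ⊓ O' from ⟨hx.2, hx.1⟩)) (fun h => h.elim)) _ _ (fun e => e.elim)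
    · exact TopCat.Sheaf.eq_of_locally_eq' ⟨M.presheaf, M.isSheaf⟩ (fun e : PEmpty.{u + 1} => e.elim) _
        (fun e => e.elim) (fun x hx => absurd (hdis.le hx) (fun h => h.elim)) _ _ (fun e => e.elim)
    · rfl
  obtain ⟨t, ht, -⟩ := TopCat.Sheaf.existsUnique_gluing' ⟨M.presheaf, M.isSheaf⟩
    (fun b : Bool => bif b then O else O') ⊤ (fun b => homOfLE le_top)
    (fun x _ => by
      rcases (hcov.ge (Opens.mem_top x) : x ∈ O ⊔ O') with h | h
      · exact Opens.mem_iSup.2 ⟨true, h⟩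
      · exact Opens.mem_iSup.2 ⟨false, h⟩) sec hcompat
  refine ⟨M, t, hM, ?_⟩
  have hpull : pullTop O.ι t = w := by
    have h1 := pullSect_res O.ι M (le_top : O ≤ ⊤) t
    rw [show M.presheaf.map (homOfLE (le_top : O ≤ ⊤)).op t = u from ht true, hu] at h1
    have h2 := congrArg (N.presheaf.map (homOfLE hpre).op) h1
    erw [H10Coh.mres_mres, H10Coh.mres_mres] at h2
    refine Eq.trans ?_ (h2.symm.trans (H10Coh.mres_self _ _ _))
    exact (H10Coh.mres_self _ _ _).symm
  have h3 := gen_smul_pullSect O.ι hM t (isUnit_one (M := Γ(O.toScheme, ⊤)))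
  rw [one_smul, hpull, hw] at h3
  ext x
  constructor
  · intro hx
    by_cases hxO : x ∈ O
    · exact ⟨⟨x, hxO⟩, h3.ge hx, rfl⟩
    · exfalso
      have hxO' : x ∈ O' := (show x ∈ O ⊔ O' from hcov.ge (Opens.mem_top x)).resolve_left hxO
      have h0 : M.presheaf.germ ⊤ x trivial t = 0 := by
        rw [← TopCat.Presheaf.germ_res_apply M.presheaf (homOfLE (le_top : O' ≤ ⊤)) x hxO' t,
          show M.presheaf.map (homOfLE (le_top : O' ≤ ⊤)).op t = (0 : Γ(M, O')) from ht false, map_zero]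
      exact one_ne_zero (((mem_gen_iff hM t x).1 hx).1
        (a₁ := (1 : Z.presheaf.stalk x)) (a₂ := 0)
        (show (1 : Z.presheaf.stalk x) • M.presheaf.germ ⊤ x trivial t = (0 : Z.presheaf.stalk x) • _ by
          rw [h0, smul_zero, smul_zero]))
  · rintro ⟨y, hy, rfl⟩
    exact h3.le hy

/-- A scheme covered by two disjoint opens with ample families has an ample family. -/
theorem hasAmpleFamily_of_clopen {Z : Scheme.{u}} (O O' : Z.Opens) (hcov : O ⊔ O' = ⊤) (hdis : O ⊓ O' = ⊥)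
    (h : MoreMor.HasAmpleFamily O.toScheme) (h' : MoreMor.HasAmpleFamily O'.toScheme) :
    MoreMor.HasAmpleFamily Z := by
  haveI := h.1
  haveI := h'.1
  have key : ∀ (A B : Z.Opens), A ⊔ B = ⊤ → A ⊓ B = ⊥ → MoreMor.HasAmpleFamily A.toScheme → ∀ x ∈ A,
      ∃ (L : Z.Modules) (n : ℕ) (s : Coh.structureModule Z ⟶ CohB1.tensorPow L n),
      PicF.IsInvertible L ∧ 1 ≤ n ∧ x ∈ CohB1.genLocus (CohB1.tensorPow L n) s ∧
      IsAffineOpen (CohB1.genLocus (CohB1.tensorPow L n) s) := fun A B hc hd hA x hx => by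
    obtain ⟨L, n, s, hL, -, hxs, hs⟩ := hA.2 ⟨x, hx⟩
    rw [genLocus_eq_gen] at hxs hs
    obtain ⟨M, t, hM, hg⟩ := exists_extend_clopen A B hc hd (isInvertible_tensorPow hL n) (SecTwist.val s ⊤)
    refine ⟨M, 1, homOfGlobal _ (spow t 1), hM, le_rfl, ?_, ?_⟩
    · change x ∈ gen (CohB1.tensorPow M 1) (spow t 1)
      rw [gen_spow hM t 1 one_pos, hg]
      exact ⟨⟨x, hx⟩, hxs, rfl⟩
    · change IsAffineOpen (gen (CohB1.tensorPow M 1) (spow t 1))
      rw [gen_spow hM t 1 one_pos, hg]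
      exact hs.image_of_isOpenImmersion A.ι
  refine ⟨⟨?_⟩, fun x => ?_⟩
  · rw [show (Set.univ : Set Z) = (O : Set Z) ∪ O' by rw [← Opens.coe_sup, hcov]; rfl]
    exact (isCompact_iff_compactSpace.2 h.1).union (isCompact_iff_compactSpace.2 h'.1)
  · rcases (hcov.ge (Opens.mem_top x) : x ∈ O ⊔ O') with hx | hx
    · exact key O O' hcov hdis h x hx
    · exact key O' O (by rw [sup_comm, hcov]) (by rw [inf_comm, hdis]) h' x hx

end Groth.Agent.H8AmpleCover
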