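import Groth.Agent.H8AmpleCover.BlowFamily
import Groth.Agent.H8AmpleCover.Clopen
import Groth.Agent.H8Props.CompDecomp.Descend
import Groth.Agent.H7Flat.FiniteExtend
import Groth.Agent.H7Lim.Approx.AbsoluteMain
import Groth.Agent.S7184
import Groth.Agent.H11Strict.BlowProj
import Mathlib

/-!
# Completely decomposed proper covers with an ample family
-/

set_option autoImplicit false
set_option linter.style.haveILetI false
set_option backward.isDefEq.respectTransparency false

universe u

open AlgebraicGeometry CategoryTheory Limits TopologicalSpace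

namespace Groth.Agent.H8AmpleCover

theorem isProper_coprodDesc {A B S : Scheme.{u}} (a : A ⟶ S) (b : B ⟶ S) [IsProper a] [IsProper b] :
    IsProper (coprod.desc a b) := by
  haveI : IsProper (coprod.map a b) := by
    refine IsZariskiLocalAtTarget.of_openCover (P := @IsProper) (coprodOpenCover.{u, 0} S S) fun i => ?_
    rcases i with i | i
    · change IsProper (pullback.snd (coprod.map a b) (coprod.inl : S ⟶ S ⨿ S))
      rw [← MorphismProperty.cancel_left_of_respectsIso @IsProper
        (isPullback_inl_inl_coprodMap a b).flip.isoPullback.hom, IsPullback.isoPullback_hom_snd]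
      infer_instance
    · change IsProper (pullback.snd (coprod.map a b) (coprod.inr : S ⟶ S ⨿ S))
      rw [← MorphismProperty.cancel_left_of_respectsIso @IsProper
        (isPullback_inr_inr_coprodMap a b).flip.isoPullback.hom, IsPullback.isoPullback_hom_snd]
      infer_instance
  haveI : IsFinite (coprod.desc (𝟙 S) (𝟙 S)) := H7Flat.FiniteExtend.isFinite_coprodDesc _ _
  rw [show coprod.desc a b = coprod.map a b ≫ coprod.desc (𝟙 S) (𝟙 S) by simp]
  infer_instance

theorem hasAmpleFamily_of_isIso {Y Z : Scheme.{u}} (e : Y ⟶ Z) [IsIso e]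
    (h : MoreMor.HasAmpleFamily Z) : MoreMor.HasAmpleFamily Y := S7184.result e (Or.inl inferInstance) h

theorem hasAmpleFamily_coprod {A B : Scheme.{u}} (hA : MoreMor.HasAmpleFamily A) (hB : MoreMor.HasAmpleFamily B) :
    MoreMor.HasAmpleFamily (A ⨿ B) :=
  hasAmpleFamily_of_clopen _ _ (isCompl_opensRange_inl_inr A B).sup_eq_top
    (isCompl_opensRange_inl_inr A B).inf_eq_bot
    (hasAmpleFamily_of_isIso (coprod.inl : A ⟶ A ⨿ B).isoOpensRange.inv hA)
    (hasAmpleFamily_of_isIso (coprod.inr : B ⟶ A ⨿ B).isoOpensRange.inv hB)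

theorem bijective_residueFieldMap_comp {A B C : Scheme.{u}} (f : A ⟶ B) (g : B ⟶ C) (a : A)
    (hf : Function.Bijective (f.residueFieldMap a)) (hg : Function.Bijective (g.residueFieldMap (f a))) :
    Function.Bijective ((f ≫ g).residueFieldMap a) := by
  rw [Scheme.residueFieldMap_comp]
  change Function.Bijective (⇑(f.residueFieldMap a) ∘ ⇑(g.residueFieldMap (f a)))
  exact hf.comp hg

theorem bijective_residueFieldMap_of_openImmersion {A B C : Scheme.{u}} (f : A ⟶ B) [IsOpenImmersion f]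
    (g : B ⟶ C) (a : A) (h : Function.Bijective ((f ≫ g).residueFieldMap a)) :
    Function.Bijective (g.residueFieldMap (f a)) := by
  rw [Scheme.residueFieldMap_comp] at h
  exact (Function.Bijective.of_comp_iff' (ConcreteCategory.bijective_of_isIso (f.residueFieldMap a)) _).1 h

theorem bijective_residueFieldMap_closedImmersion {A B : Scheme.{u}} (i : A ⟶ B) [IsClosedImmersion i] (a : A) :
    Function.Bijective (i.residueFieldMap a) := by
  refine ⟨(i.residueFieldMap a).hom.injective, fun r => ?_⟩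
  obtain ⟨s, rfl⟩ := A.residue_surjective a r
  obtain ⟨t, rfl⟩ := i.stalkMap_surjective a s
  exact ⟨B.residue (i a) t, by
    rw [← CommRingCat.comp_apply, Scheme.residue_residueFieldMap, CommRingCat.comp_apply]⟩

theorem exists_cover_of_noetherian (X : Scheme.{u}) [IsNoetherian X] (Z : Closeds X) :
    ∃ (Y : Scheme.{u}) (f : Y ⟶ X), IsProper f ∧ MoreMor.HasAmpleFamily Y ∧
      ∀ x ∈ Z, ∃ y : Y, f y = x ∧ Function.Bijective (f.residueFieldMap y) := by
  induction Z using (wellFounded_lt (α := Closeds X)).induction with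
  | _ Z ih =>
  let Zs := (Scheme.IdealSheafData.vanishingIdeal Z).subscheme
  let i : Zs ⟶ X := (Scheme.IdealSheafData.vanishingIdeal Z).subschemeι
  haveI : IsLocallyNoetherian Zs := LocallyOfFiniteType.isLocallyNoetherian i
  haveI : CompactSpace Zs := QuasiCompact.compactSpace_of_compactSpace i
  haveI : IsNoetherian Zs := ⟨⟩
  have hi : Set.range i = (Z : Set X) := by
    exact (Scheme.IdealSheafData.range_subschemeι _).trans (Scheme.IdealSheafData.coe_support_vanishingIdeal _)
  obtain ⟨U, P, X', b, -, hUd, hP, hb, hX'⟩ := exists_blowUp_ampleFamily Zs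
    TopologicalSpace.NoetherianSpace.finite_irreducibleComponents
  haveI : IsProper b := H11Proj.isProper_of_isProjective (H11Strict.BlowProj.isProjective (b := b) hP.1 hb)
  haveI : IsIso (b ∣_ U) := H29Blow.isIso_morphismRestrict hb U
    (fun x hx hs => Set.disjoint_left.1 hP.2 hs hx)
  have hlift : ∀ z ∈ U, ∃ w : X', b w = z ∧ Function.Bijective (b.residueFieldMap w) := fun z hz => by
    obtain ⟨w, hw⟩ := (b ∣_ U).surjective ⟨z, hz⟩
    refine ⟨(b ⁻¹ᵁ U).ι w, ?_, ?_⟩
    · rw [← Scheme.Hom.comp_apply, ← morphismRestrict_ι, Scheme.Hom.comp_apply, hw]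
      rfl
    · have h1 : Function.Bijective (((b ∣_ U) ≫ U.ι).residueFieldMap w) :=
        bijective_residueFieldMap_comp _ _ _ (ConcreteCategory.bijective_of_isIso _)
          (ConcreteCategory.bijective_of_isIso _)
      rw [morphismRestrict_ι] at h1
      exact bijective_residueFieldMap_of_openImmersion _ _ _ h1
  by_cases hZ : (Z : Set X) = ∅
  · refine ⟨X', b ≫ i, inferInstance, hX', fun x hx => ?_⟩
    exact absurd (show x ∈ (Z : Set X) from hx) (by rw [hZ]; exact id)
  let T : Closeds X := ⟨i '' (U : Set Zs)ᶜ, i.isClosedMap _ U.2.isClosed_compl⟩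
  have hTZ : T < Z := by
    refine lt_of_le_of_ne (fun x ⟨z, _, e⟩ => hi.le ⟨z, e⟩) fun e => ?_
    obtain ⟨x, hx⟩ := Set.nonempty_iff_ne_empty.2 hZ
    obtain ⟨z, -⟩ := hi.ge hx
    obtain ⟨z₀, hz₀⟩ := hUd.nonempty_iff.2 ⟨z⟩
    obtain ⟨z₁, hz₁, e₁⟩ := (SetLike.ext_iff.1 e (i z₀)).2 (hi.le ⟨z₀, rfl⟩)
    exact hz₁ (i.isEmbedding.injective e₁ ▸ hz₀)
  obtain ⟨Y, f, hf, hY, hpts⟩ := ih T hTZ
  haveI := hf
  refine ⟨X' ⨿ Y, coprod.desc (b ≫ i) f, isProper_coprodDesc _ _, hasAmpleFamily_coprod hX' hY, fun x hx => ?_⟩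
  have hstep : ∀ {A : Scheme.{u}} (ι : A ⟶ X' ⨿ Y) [IsOpenImmersion ι] (g : A ⟶ X)
      (hg : ι ≫ coprod.desc (b ≫ i) f = g) (a : A), g a = x → Function.Bijective (g.residueFieldMap a) →
      ∃ y, coprod.desc (b ≫ i) f y = x ∧ Function.Bijective ((coprod.desc (b ≫ i) f).residueFieldMap y) := by
    intro A ι _ g hg a ha hb'
    subst hg
    exact ⟨ι a, by rw [← Scheme.Hom.comp_apply]; exact ha, bijective_residueFieldMap_of_openImmersion _ _ _ hb'⟩
  obtain ⟨z, rfl⟩ := hi.ge hx
  by_cases hz : z ∈ U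
  · obtain ⟨w, rfl, hw⟩ := hlift z hz
    exact hstep coprod.inl (b ≫ i) (coprod.inl_desc _ _) w (Scheme.Hom.comp_apply _ _ _)
      (bijective_residueFieldMap_comp _ _ _ hw (bijective_residueFieldMap_closedImmersion i _))
  · obtain ⟨y, hy, hyb⟩ := hpts (i z) ⟨z, hz, rfl⟩
    exact hstep coprod.inr f (coprod.inr_desc _ _) y hy hyb

theorem exists_cover (X : Scheme.{u}) [CompactSpace X] [QuasiSeparatedSpace X] :
    ∃ (Y : Scheme.{u}) (f : Y ⟶ X), IsProper f ∧ LocallyOfFinitePresentation f ∧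
      (∀ x : X, ∃ y : Y, f y = x ∧ Function.Bijective (f.residueFieldMap y)) ∧ MoreMor.HasAmpleFamily Y := by
  obtain ⟨X₀, a, ha, hX₀, hX₀t⟩ := H7Lim.Approx.exists_affineHom_finiteType X
  haveI := ha
  haveI := H7Lim.Approx.isLocallyNoetherian_of_toZ X₀
  haveI : IsNoetherian X₀ := ⟨⟩
  obtain ⟨Y₀, f₀, hf₀, hY₀, hpts⟩ := exists_cover_of_noetherian X₀ ⊤
  haveI := hf₀
  haveI : LocallyOfFinitePresentation f₀ := inferInstance
  refine ⟨pullback a f₀, pullback.fst a f₀, inferInstance, inferInstance, fun x => ?_,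
    S7184.result (pullback.snd a f₀) (Or.inl (MorphismProperty.pullback_snd _ _ ha)) hY₀⟩
  obtain ⟨y₀, hy₀, hb⟩ := hpts (a x) trivial
  obtain ⟨σ, hσ⟩ : H8Props.CompDecomp.HasPoint f₀ (𝟙 X₀) (a x) := by
    rw [← hy₀]
    exact H8Props.CompDecomp.hasPoint_of_bijective f₀ f₀ (𝟙 Y₀) (𝟙 X₀) (by simp) y₀ hb
  rw [Category.comp_id] at hσ
  exact H8Props.CompDecomp.bijective_residueFieldMap_of_point (pullback.fst a f₀) x
    (pullback.lift (X.fromSpecResidueField x) (Spec.map (a.residueFieldMap x) ≫ σ)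
      (by rw [Category.assoc, hσ, a.SpecMap_residueFieldMap_fromSpecResidueField]))
    (pullback.lift_fst _ _ _)

end Groth.Agent.H8AmpleCover
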